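import Mathlib.AlgebraicGeometry.AffineScheme
import Mathlib.AlgebraicGeometry.Morphisms.Affine
import Mathlib.RingTheory.Localization.Away.Basic
import Mathlib.RingTheory.Localization.AtPrime.Basic
import Mathlib.CategoryTheory.Limits.Preserves.Opposites
import Mathlib.Algebra.Category.Ring.Colimits

/-!
# The spectrum of a local ring as the limit of the basic open neighbourhoods
-/

set_option autoImplicit false
set_option linter.style.haveILetI false
set_option backward.isDefEq.respectTransparency false
set_option backward.isDefEq.respectTransparency.types false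

universe u

open CategoryTheory CategoryTheory.Limits AlgebraicGeometry Opposite

noncomputable section

namespace Groth.L05.NbhdLimit

variable {A : Type u} [CommRing A] (p : Ideal A) [p.IsPrime]

/-- Elements outside `p`, indexing the basic open neighbourhoods. -/
@[ext]
structure Idx : Type u where
  val : A
  notMem : val ∉ p

instance : Preorder (Idx p) where
  le f g := g.val ∣ f.val
  le_refl f := dvd_refl _
  le_trans f g h h1 h2 := dvd_trans h2 h1

instance : Nonempty (Idx p) := ⟨⟨1, fun h => Ideal.IsPrime.ne_top ‹_› ((Ideal.eq_top_iff_one p).mpr h)⟩⟩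

instance : IsCofiltered (Idx p) where
  cone_objs f g := ⟨⟨f.val * g.val, Ideal.IsPrime.mul_notMem ‹_› f.notMem g.notMem⟩,
    homOfLE (Dvd.intro _ rfl), homOfLE (Dvd.intro_left _ rfl), trivial⟩
  cone_maps f g a b := ⟨f, 𝟙 f, Subsingleton.elim _ _⟩

/-- The transition map `A_g → A_f`. -/
def tr {f g : Idx p} (h : g.val ∣ f.val) :
    Localization.Away g.val →+* Localization.Away f.val :=
  IsLocalization.Away.lift g.val (g := algebraMap A (Localization.Away f.val))
    (isUnit_of_dvd_unit (map_dvd _ h) (IsLocalization.Away.algebraMap_isUnit f.val))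

theorem tr_comp {f g : Idx p} (h : g.val ∣ f.val) :
    (tr p h).comp (algebraMap A (Localization.Away g.val)) = algebraMap A (Localization.Away f.val) :=
  IsLocalization.Away.lift_comp _ _

theorem hom_ext (g : Idx p) {P : Type u} [CommRing P] {a b : Localization.Away g.val →+* P}
    (h : a.comp (algebraMap A _) = b.comp (algebraMap A _)) : a = b :=
  IsLocalization.ringHom_ext (Submonoid.powers g.val) h

/-- The diagram of rings. -/
def F : (Idx p)ᵒᵖ ⥤ CommRingCat.{u} where
  obj f := CommRingCat.of (Localization.Away f.unop.val)
  map {f g} h := CommRingCat.ofHom (tr p h.unop.le)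
  map_id f := CommRingCat.hom_ext (hom_ext p f.unop (tr_comp p (dvd_refl _)))
  map_comp {f g k} a b := CommRingCat.hom_ext (hom_ext p f.unop (by
    simp only [CommRingCat.hom_comp, CommRingCat.hom_ofHom, RingHom.comp_assoc, tr_comp]))

variable (L : Type u) [CommRing L] [Algebra A L] [IsLocalization.AtPrime L p]

/-- The map to the local ring. -/
def toL (f : Idx p) : Localization.Away f.val →+* L :=
  IsLocalization.Away.lift f.val (g := algebraMap A L)
    (IsLocalization.map_units L (⟨f.val, f.notMem⟩ : p.primeCompl))

theorem toL_comp (f : Idx p) : (toL p L f).comp (algebraMap A _) = algebraMap A L :=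
  IsLocalization.Away.lift_comp _ _

/-- The cocone at the local ring. -/
def cocone : Cocone (F p) where
  pt := CommRingCat.of L
  ι :=
    { app := fun f => CommRingCat.ofHom (toL p L f.unop)
      naturality := fun f g h => CommRingCat.hom_ext (hom_ext p f.unop (by
        simp [F, RingHom.comp_assoc, tr_comp, toL_comp])) }

/-- The component of a cocone. -/
def app (s : Cocone (F p)) (f : Idx p) : Localization.Away f.val →+* s.pt := (s.ι.app (op f)).hom

theorem app_tr (s : Cocone (F p)) {f g : Idx p} (h : g.val ∣ f.val) :
    (app p s f).comp (tr p h) = app p s g :=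
  congrArg CommRingCat.Hom.hom (s.w (homOfLE (show f ≤ g from h)).op)

/-- The base of a cocone, a map out of `A`. -/
def descBase (s : Cocone (F p)) : A →+* s.pt :=
  (app p s (Nonempty.some inferInstance)).comp (algebraMap A _)

theorem descBase_eq (s : Cocone (F p)) (f : Idx p) :
    (app p s f).comp (algebraMap A _) = descBase p s := by
  let f₀ : Idx p := Nonempty.some inferInstance
  let k : Idx p := ⟨f.val * f₀.val, Ideal.IsPrime.mul_notMem ‹_› f.notMem f₀.notMem⟩
  have key : ∀ (g : Idx p) (h : g.val ∣ k.val), (app p s g).comp (algebraMap A _) =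
      (app p s k).comp (algebraMap A _) := by
    intro g h
    rw [← app_tr p s h, RingHom.comp_assoc, tr_comp]
  exact (key f (Dvd.intro _ rfl)).trans (key f₀ (Dvd.intro_left _ rfl)).symm

theorem descBase_isUnit (s : Cocone (F p)) (y : p.primeCompl) : IsUnit (descBase p s y) := by
  rw [← descBase_eq p s ⟨y, y.2⟩]
  exact (IsLocalization.Away.algebraMap_isUnit (y : A)).map (app p s ⟨y, y.2⟩)

/-- The local ring is the colimit. -/
def isColimitCocone : IsColimit (cocone p L) where
  desc s := CommRingCat.ofHom (IsLocalization.lift (M := p.primeCompl) (S := L) (descBase_isUnit p s))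
  fac s j := CommRingCat.hom_ext (hom_ext p j.unop (by
    show ((IsLocalization.lift (M := p.primeCompl) (S := L) (descBase_isUnit p s)).comp
      (toL p L j.unop)).comp _ = (app p s j.unop).comp _
    rw [RingHom.comp_assoc, toL_comp, IsLocalization.lift_comp, descBase_eq]))
  uniq s m hm := by
    let m' : L →+* s.pt := m.hom
    have h0 : m'.comp (algebraMap A L) = descBase p s := by
      rw [descBase, show app p s (Nonempty.some inferInstance) =
        m'.comp (toL p L (Nonempty.some inferInstance)) from
          (congrArg CommRingCat.Hom.hom (hm (op _))).symm, RingHom.comp_assoc, toL_comp]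
    refine CommRingCat.hom_ext (?_ : m' = IsLocalization.lift (M := p.primeCompl) (S := L) (descBase_isUnit p s))
    exact IsLocalization.ringHom_ext p.primeCompl (h0.trans (IsLocalization.lift_comp _).symm)

/-- The diagram of basic open neighbourhoods. -/
def D : Idx p ⥤ Scheme.{u} := (F p).rightOp ⋙ Scheme.Spec

instance (j : Idx p) : IsAffine ((D p).obj j) := inferInstanceAs (IsAffine (Spec _))

instance {i j : Idx p} (f : i ⟶ j) : IsAffineHom ((D p).map f) :=
  inferInstanceAs (IsAffineHom (Spec.map (CommRingCat.ofHom (tr p f.le))))

/-- The cone at the spectrum of the local ring. -/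
def cone : Cone (D p) := Scheme.Spec.mapCone (coneRightOpOfCocone (cocone p L))

/-- The spectrum of the local ring is the limit. -/
def isLimitCone : IsLimit (cone p L) :=
  isLimitOfPreserves Scheme.Spec (isLimitConeRightOpOfCocone (F p) (isColimitCocone p L))

theorem cone_π_app (j : Idx p) :
    (cone p L).π.app j = Spec.map (CommRingCat.ofHom (toL p L j)) := rfl

/-- The map to `Spec A`. -/
def toBase : D p ⟶ (Functor.const (Idx p)).obj (Spec (CommRingCat.of A)) where
  app j := Spec.map (CommRingCat.ofHom (algebraMap A (Localization.Away j.val)))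
  naturality i j f := by
    show Spec.map (CommRingCat.ofHom (tr p f.le)) ≫ _ = _ ≫ 𝟙 _
    rw [Category.comp_id, ← Spec.map_comp, ← CommRingCat.ofHom_comp, tr_comp]

theorem toBase_isOpenImmersion (j : Idx p) : IsOpenImmersion ((toBase p).app j) :=
  inferInstanceAs (IsOpenImmersion (Spec.map (CommRingCat.ofHom (algebraMap A (Localization.Away j.val)))))

theorem cone_π_toBase (j : Idx p) :
    (cone p L).π.app j ≫ (toBase p).app j = Spec.map (CommRingCat.ofHom (algebraMap A L)) := by
  rw [cone_π_app]
  exact (Spec.map_comp _ _).symm.trans (by rw [← CommRingCat.ofHom_comp, toL_comp])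

end Groth.L05.NbhdLimit
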