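import Groth.Agent.L05.NbhdLimit.Basic
import Groth.Agent.L19.Limit.Hom
import Groth.Agent.L19.Limit.Smooth
import Mathlib.AlgebraicGeometry.Morphisms.Smooth
import Mathlib.AlgebraicGeometry.Noetherian
import Mathlib.RingTheory.Smooth.NoetherianDescent

/-!
# Extension properties for smooth schemes pass to the local scheme
-/

set_option autoImplicit false
set_option linter.style.haveILetI false
set_option backward.isDefEq.respectTransparency false
set_option backward.isDefEq.respectTransparency.types false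
set_option backward.defeqAttrib.useBackward true

universe u

open CategoryTheory CategoryTheory.Limits AlgebraicGeometry TensorProduct

noncomputable section

namespace Groth.L05.NbhdLimit

open Groth.L19.Limit

/-- Every morphism over the base from the preimage of `U` extends uniquely. -/
def Ext1 {S N : Scheme.{u}} (n : N ⟶ S) (U : S.Opens) {Y : Scheme.{u}} (h : Y ⟶ S) : Prop :=
  ∀ v : (h ⁻¹ᵁ U : Scheme.{u}) ⟶ N, v ≫ n = (h ⁻¹ᵁ U).ι ≫ h →
    ∃! f : Y ⟶ N, f ≫ n = h ∧ (h ⁻¹ᵁ U).ι ≫ f = v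

variable {A : Type u} [CommRing A] [IsNoetherianRing A] (p : Ideal A) [p.IsPrime]
  (L : Type u) [CommRing L] [Algebra A L] [IsLocalization.AtPrime L p]

instance (i : Idx p) : IsNoetherian ((D p).obj i) := by
  haveI : IsNoetherianRing (Localization.Away i.val) :=
    IsLocalization.isNoetherianRing (Submonoid.powers i.val) _ inferInstance
  exact inferInstanceAs (IsNoetherian (Spec (CommRingCat.of (Localization.Away i.val))))

variable {p L}

theorem exists_model {Y' : Scheme.{u}} [IsAffine Y'] (h : Y' ⟶ (cone p L).pt) [Smooth h] :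
    ∃ (i : Idx p) (Y₀ : Scheme.{u}) (g : Y₀ ⟶ (D p).obj i) (q : Y' ⟶ Y₀),
      Smooth g ∧ QuasiCompact g ∧ QuasiSeparated g ∧
        IsPullback q h g ((cone p L).π.app i) := by
  obtain ⟨ψ, hψ⟩ := Spec.map_surjective (Y'.isoSpec.inv ≫ h)
  haveI : Smooth (Spec.map ψ) := hψ ▸ inferInstance
  let B := Γ(Y', ⊤)
  letI : Algebra L B := ψ.hom.toAlgebra
  haveI : Algebra.Smooth L B :=
    RingHom.smooth_algebraMap.mp ((HasRingHomProperty.Spec_iff (P := @Smooth)).mp ‹_›)
  obtain ⟨A', B', _, _, hA', hB', ⟨e⟩⟩ := Algebra.Smooth.exists_subalgebra_fg ℤ L B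
  haveI : Algebra.FiniteType ℤ A' := A'.fg_iff_finiteType.mp hA'
  haveI := hB'
  haveI := lfp_toTerminal A'
  let w : Spec (CommRingCat.of B') ⟶ Spec (CommRingCat.of A') :=
    Spec.map (CommRingCat.ofHom (algebraMap A' B'))
  haveI : Smooth w :=
    (HasRingHomProperty.Spec_iff (P := @Smooth)).mpr (RingHom.smooth_algebraMap.mpr hB')
  let π : Spec (CommRingCat.of L) ⟶ Spec (CommRingCat.of A') :=
    Spec.map (CommRingCat.ofHom (algebraMap A' L))
  obtain ⟨i, φ, hφ, -⟩ := Scheme.exists_π_app_comp_eq_of_locallyOfFinitePresentation (D p)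
    { app := fun j => specULiftZIsTerminal.from ((D p).obj j)
      naturality := fun _ _ _ => specULiftZIsTerminal.hom_ext _ _ }
    (specULiftZIsTerminal.from (Spec (CommRingCat.of A'))) (cone p L) (isLimitCone p L) π
    (by ext j : 2; exact specULiftZIsTerminal.hom_ext _ _)
  let qB : Y' ⟶ Spec (CommRingCat.of B') :=
    Y'.isoSpec.hom ≫ Spec.map (CommRingCat.ofHom
      (e.symm.toRingEquiv.toRingHom.comp (Algebra.TensorProduct.includeRight (R := A')).toRingHom))
  have sq : IsPullback qB h w π := by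
    refine ((isPullback_SpecMap_of_isPushout _ _ _ _
      (CommRingCat.isPushout_tensorProduct A' L B'))).flip.of_iso
        ((Scheme.Spec.mapIso e.toRingEquiv.toCommRingCatIso.op) ≪≫ Y'.isoSpec.symm)
        (Iso.refl _) (Iso.refl _) (Iso.refl _) ?_ ?_ (by simp [w]) (by simp [π])
    · simp [qB, ← Spec.map_comp]
      congr 1
      ext x
      simp
    · have h1 : h = Y'.isoSpec.hom ≫ Spec.map ψ := by rw [hψ, Iso.hom_inv_id_assoc]
      simp [h1, ← Spec.map_comp]
      congr 1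
      ext x
      exact (e.commutes x).symm
  refine ⟨i, pullback w φ, pullback.snd w φ, pullback.lift qB (h ≫ (cone p L).π.app i) ?_,
    inferInstance, inferInstance, inferInstance, ?_⟩
  · exact sq.w.trans ((congrArg (h ≫ ·) hφ).symm.trans (Category.assoc _ _ _).symm)
  · exact IsPullback.of_right (by rw [pullback.lift_fst, hφ]; exact sq) (pullback.lift_snd _ _ _)
      (IsPullback.of_hasPullback w φ)

variable {S N : Scheme.{u}} (n : N ⟶ S) (j : Spec (CommRingCat.of A) ⟶ S)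
  {i : Idx p} {Xi X : Scheme.{u}} {g : Xi ⟶ (D p).obj i} {q : X ⟶ Xi} {h : X ⟶ (cone p L).pt}

/-- The structure maps to `S` of the base changes. -/
def bcToS : bcDiagram (D p) g ⟶ (Functor.const (Over i)).obj S where
  app k := pullback.snd ((D p).map k.hom) g ≫ g ≫ (toBase p).app i ≫ j
  naturality k l m := by simp [bcDiagram]

theorem exists_hom [CompactSpace Xi] [QuasiSeparatedSpace Xi] [LocallyOfFinitePresentation n]
    (sq : IsPullback q h g ((cone p L).π.app i)) (a : X ⟶ N)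
    (ha : a ≫ n = q ≫ g ≫ (toBase p).app i ≫ j) :
    ∃ (k : Over i) (a' : pullback ((D p).map k.hom) g ⟶ N),
      toStage (c := cone p L) sq k ≫ a' = a ∧
        a' ≫ n = pullback.snd ((D p).map k.hom) g ≫ g ≫ (toBase p).app i ≫ j := by
  haveI : ∀ k, CompactSpace ((bcDiagram (D p) g).obj k) := compactSpace_bc
  haveI : ∀ k, QuasiSeparatedSpace ((bcDiagram (D p) g).obj k) := quasiSeparatedSpace_bc
  obtain ⟨k, a', h1, h2⟩ := Scheme.exists_π_app_comp_eq_of_locallyOfFinitePresentation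
    (bcDiagram (D p) g) (bcToS j) n (sqCone sq) (isLimitSqCone (isLimitCone p L) sq) a (by
      ext k : 2
      show toStage (c := cone p L) sq k ≫ pullback.snd ((D p).map k.hom) g ≫ _ = a ≫ n
      rw [toStage_snd_assoc, ha])
  exact ⟨k, a', h1, h2⟩

theorem exists_eq [CompactSpace Xi] [LocallyOfFiniteType n]
    (sq : IsPullback q h g ((cone p L).π.app i)) (a b : Xi ⟶ N)
    (ha : a ≫ n = g ≫ (toBase p).app i ≫ j) (hb : b ≫ n = g ≫ (toBase p).app i ≫ j)
    (hab : q ≫ a = q ≫ b) :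
    ∃ k : Over i,
      pullback.snd ((D p).map k.hom) g ≫ a = pullback.snd ((D p).map k.hom) g ≫ b := by
  haveI : ∀ k, CompactSpace ((bcDiagram (D p) g).obj k) := compactSpace_bc
  let J : Over i := Over.mk (𝟙 i)
  obtain ⟨k, m, hk⟩ := Scheme.exists_hom_comp_eq_comp_of_locallyOfFiniteType (bcDiagram (D p) g)
    (bcToS j) n (sqCone sq) (isLimitSqCone (isLimitCone p L) sq) (i := J)
    (pullback.snd ((D p).map J.hom) g ≫ a) (pullback.snd ((D p).map J.hom) g ≫ b)
    (by simp [bcToS, ha]) (by simp [bcToS, hb])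
    ((toStage_snd_assoc sq J a).trans (hab.trans (toStage_snd_assoc sq J b).symm))
  refine ⟨k, ?_⟩
  have e : (bcDiagram (D p) g).map m ≫ pullback.snd ((D p).map J.hom) g = pullback.snd ((D p).map k.hom) g :=
    (pullback.lift_snd ..).trans (Category.comp_id _)
  rw [reassoc_of% e, reassoc_of% e] at hk
  exact hk

theorem isPullback_stage (sq : IsPullback q h g ((cone p L).π.app i)) (k : Over i) :
    IsPullback (X := pullback ((D p).map k.hom) g) (toStage (c := cone p L) sq k) h (pullback.fst ((D p).map k.hom) g) ((cone p L).π.app k.left) :=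
  IsPullback.of_right (by rw [toStage_snd, (cone p L).w]; exact sq) (toStage_fst sq k)
    (IsPullback.of_hasPullback ((D p).map k.hom) g).flip

theorem stage_toS (k : Over i) :
    pullback.snd ((D p).map k.hom) g ≫ g ≫ (toBase p).app i ≫ j =
      pullback.fst ((D p).map k.hom) g ≫ (toBase p).app k.left ≫ j := by
  rw [← pullback.condition_assoc, (toBase p).naturality_assoc]
  simp

theorem ext1_of_affine [IsOpenImmersion j] [LocallyOfFinitePresentation n] (U : S.Opens)
    (hN : ∀ {Y : Scheme.{u}} (h : Y ⟶ S), Smooth h → Ext1 n U h)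
    {Y' : Scheme.{u}} [IsAffine Y'] (h : Y' ⟶ (cone p L).pt) [Smooth h] :
    Ext1 n U (h ≫ Spec.map (CommRingCat.ofHom (algebraMap A L)) ≫ j) := by
  obtain ⟨i, Y₀, g, q, hg, hgc, hgs, sq⟩ := exists_model (p := p) h
  have hnoeth : ∀ (k : Idx p) {Z : Scheme.{u}} (g' : Z ⟶ (D p).obj k), Smooth g' → QuasiCompact g' →
      IsNoetherian Z := by
    intro k Z g' _ _
    haveI : IsLocallyNoetherian Z := LocallyOfFiniteType.isLocallyNoetherian g'
    haveI : CompactSpace Z := QuasiCompact.compactSpace_of_compactSpace g'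
    exact {}
  have hbase : ∀ k : Idx p, (cone p L).π.app k ≫ (toBase p).app k ≫ j =
      Spec.map (CommRingCat.ofHom (algebraMap A L)) ≫ j := fun k => by
    rw [← Category.assoc, cone_π_toBase]
  intro v hv
  -- existence
  have hex : ∀ {i : Idx p} {Y₀ : Scheme.{u}} {g : Y₀ ⟶ (D p).obj i} {q : Y' ⟶ Y₀}, Smooth g →
      QuasiCompact g → IsPullback q h g ((cone p L).π.app i) →
      ∃ f : Y' ⟶ N, f ≫ n = h ≫ Spec.map (CommRingCat.ofHom (algebraMap A L)) ≫ j ∧
        ((h ≫ Spec.map (CommRingCat.ofHom (algebraMap A L)) ≫ j) ⁻¹ᵁ U).ι ≫ f = v := by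
    intro i Y₀ g q hg hgc sq
    haveI := hnoeth i g hg hgc
    let E₀ : Y₀.Opens := (g ≫ (toBase p).app i ≫ j) ⁻¹ᵁ U
    haveI : CompactSpace (E₀ : Scheme.{u}) :=
      isCompact_iff_compactSpace.mp (TopologicalSpace.NoetherianSpace.isCompact (E₀ : Set Y₀))
    have hs : h ≫ Spec.map (CommRingCat.ofHom (algebraMap A L)) ≫ j = q ≫ g ≫ (toBase p).app i ≫ j := by
      rw [← hbase i, ← sq.w_assoc]
    have hE : q ⁻¹ᵁ E₀ = (h ≫ Spec.map (CommRingCat.ofHom (algebraMap A L)) ≫ j) ⁻¹ᵁ U := by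
      rw [hs, Scheme.Hom.comp_preimage]
    have sqE := (isPullback_morphismRestrict q E₀).paste_vert sq
    obtain ⟨k, a', ha1, ha2⟩ := exists_hom n j sqE.flip.flip ((Y'.isoOfEq hE).hom ≫ v) (by
      rw [Category.assoc, hv, ← Category.assoc, Scheme.isoOfEq_hom_ι, hs, Category.assoc E₀.ι,
        morphismRestrict_ι_assoc])
    let hk : pullback ((D p).map k.hom) g ⟶ S :=
      pullback.snd ((D p).map k.hom) g ≫ g ≫ (toBase p).app i ≫ j
    have hks : Smooth hk := by
      haveI := toBase_isOpenImmersion p k.left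
      haveI : Smooth (pullback.fst ((D p).map k.hom) g) := inferInstance
      show Smooth (pullback.snd _ g ≫ _)
      rw [stage_toS]
      infer_instance
    let π₂ := pullback.snd ((D p).map k.hom) g
    have hEk : hk ⁻¹ᵁ U = π₂ ⁻¹ᵁ E₀ := rfl
    let u : (hk ⁻¹ᵁ U : Scheme.{u}) ⟶ pullback ((D p).map k.hom) (E₀.ι ≫ g) :=
      pullback.lift ((hk ⁻¹ᵁ U).ι ≫ pullback.fst _ g) (π₂ ∣_ E₀) (by
        rw [Category.assoc, pullback.condition, morphismRestrict_ι_assoc]; rfl)
    obtain ⟨F, ⟨hF1, hF2⟩, -⟩ := hN hk hks (u ≫ a') (by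
      rw [Category.assoc, ha2, pullback.lift_snd_assoc, Category.assoc, morphismRestrict_ι_assoc]
      rfl)
    refine ⟨toStage (c := cone p L) sq k ≫ F, ?_, ?_⟩
    · rw [Category.assoc, hF1, toStage_snd_assoc, ← hs]
    · let l : (q ⁻¹ᵁ E₀ : Scheme.{u}) ⟶ (hk ⁻¹ᵁ U : Scheme.{u}) :=
        IsOpenImmersion.lift (hk ⁻¹ᵁ U).ι ((q ⁻¹ᵁ E₀).ι ≫ toStage (c := cone p L) sq k) (by
          rintro _ ⟨z, rfl⟩
          rw [Scheme.Opens.range_ι]
          show (toStage (c := cone p L) sq k ≫ π₂) z.1 ∈ E₀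
          rw [toStage_snd]
          exact z.2)
      have hl : l ≫ (hk ⁻¹ᵁ U).ι = (q ⁻¹ᵁ E₀).ι ≫ toStage (c := cone p L) sq k := IsOpenImmersion.lift_fac _ _ _
      have hlu : l ≫ u = toStage (c := cone p L) sqE.flip.flip k := by
        apply pullback.hom_ext
        · rw [Category.assoc, pullback.lift_fst, reassoc_of% hl, toStage_fst, toStage_fst, Category.assoc]
        · rw [Category.assoc, pullback.lift_snd, toStage_snd, ← cancel_mono E₀.ι, Category.assoc,
            morphismRestrict_ι, morphismRestrict_ι]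
          show l ≫ (hk ⁻¹ᵁ U).ι ≫ π₂ = _
          rw [reassoc_of% hl, toStage_snd]
      rw [← cancel_epi (Y'.isoOfEq hE).hom, ← ha1, ← hlu, ← Category.assoc, Scheme.isoOfEq_hom_ι,
        Category.assoc, ← hF2, reassoc_of% hl]
  obtain ⟨f, hf⟩ := hex hg hgc sq
  refine ⟨f, hf, fun f' hf' => ?_⟩
  -- uniqueness
  haveI := hnoeth i g hg hgc
  have hs : ∀ {i : Idx p} {Y₀ : Scheme.{u}} {g : Y₀ ⟶ (D p).obj i} {q : Y' ⟶ Y₀},
      IsPullback q h g ((cone p L).π.app i) →
      h ≫ Spec.map (CommRingCat.ofHom (algebraMap A L)) ≫ j = q ≫ g ≫ (toBase p).app i ≫ j := by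
    intro i Y₀ g q sq
    rw [← hbase i, ← sq.w_assoc]
  obtain ⟨k, a, ha1, ha2⟩ := exists_hom n j sq f (hf.1.trans (hs sq))
  rw [stage_toS] at ha2
  have sq₁ := isPullback_stage sq k
  haveI := hnoeth k.left (pullback.fst ((D p).map k.hom) g) inferInstance inferInstance
  obtain ⟨l, b, hb1, hb2⟩ := exists_hom n j sq₁ f' (hf'.1.trans (hs sq₁))
  rw [stage_toS] at hb2
  let g₂ := pullback.fst ((D p).map l.hom) (pullback.fst ((D p).map k.hom) g)
  let π₂ := pullback.snd ((D p).map l.hom) (pullback.fst ((D p).map k.hom) g)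
  have sq₂ : IsPullback (toStage (c := cone p L) sq₁ l) h g₂ ((cone p L).π.app l.left) := isPullback_stage sq₁ l
  haveI := hnoeth l.left g₂ inferInstance inferInstance
  let a₂ := π₂ ≫ a
  have ha3 : a₂ ≫ n = g₂ ≫ (toBase p).app l.left ≫ j := by
    rw [Category.assoc, ha2, stage_toS]
  let E₀ := (g₂ ≫ (toBase p).app l.left ≫ j) ⁻¹ᵁ U
  haveI : CompactSpace (E₀ : Scheme.{u}) :=
    isCompact_iff_compactSpace.mp (TopologicalSpace.NoetherianSpace.isCompact _)
  have sqE := (isPullback_morphismRestrict (toStage (c := cone p L) sq₁ l) E₀).paste_vert sq₂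
  have hfa : toStage (c := cone p L) sq₁ l ≫ a₂ = f := by rw [toStage_snd_assoc, ha1]
  have hE : toStage (c := cone p L) sq₁ l ⁻¹ᵁ E₀ =
      (h ≫ Spec.map (CommRingCat.ofHom (algebraMap A L)) ≫ j) ⁻¹ᵁ U := by
    rw [hs sq₂, Scheme.Hom.comp_preimage]
  obtain ⟨m, hm⟩ := exists_eq n j sqE.flip.flip (E₀.ι ≫ a₂) (E₀.ι ≫ b)
    (by rw [Category.assoc, ha3, Category.assoc]) (by rw [Category.assoc, hb2, Category.assoc])
    (by
      rw [morphismRestrict_ι_assoc, morphismRestrict_ι_assoc, hfa, hb1,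
        ← Scheme.isoOfEq_hom_ι Y' hE, Category.assoc, Category.assoc, hf.2, hf'.2])
  let π₃ := pullback.snd ((D p).map m.hom) g₂
  let hm' : pullback ((D p).map m.hom) g₂ ⟶ S := π₃ ≫ g₂ ≫ (toBase p).app l.left ≫ j
  have hms : Smooth hm' := by
    haveI := toBase_isOpenImmersion p m.left
    haveI : Smooth (pullback.fst ((D p).map m.hom) g₂) := inferInstance
    show Smooth (pullback.snd _ g₂ ≫ _)
    rw [stage_toS]
    infer_instance
  let u : (hm' ⁻¹ᵁ U : Scheme.{u}) ⟶ pullback ((D p).map m.hom) (E₀.ι ≫ g₂) :=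
    pullback.lift ((hm' ⁻¹ᵁ U).ι ≫ pullback.fst _ g₂) (π₃ ∣_ E₀) (by
      rw [Category.assoc, pullback.condition, morphismRestrict_ι_assoc]; rfl)
  have hu : u ≫ pullback.snd _ _ ≫ E₀.ι = (hm' ⁻¹ᵁ U).ι ≫ π₃ := by
    rw [pullback.lift_snd_assoc, morphismRestrict_ι]; rfl
  have heq : π₃ ≫ a₂ = π₃ ≫ b := by
    refine (hN hm' hms ((hm' ⁻¹ᵁ U).ι ≫ π₃ ≫ a₂) (by
      rw [Category.assoc, Category.assoc, ha3])).unique ⟨by rw [Category.assoc, ha3], rfl⟩ ⟨?_, ?_⟩
    · rw [Category.assoc, hb2]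
    · rw [← reassoc_of% hu, ← reassoc_of% hu]
      exact congrArg (u ≫ ·) hm.symm
  rw [← hb1, ← hfa, ← toStage_snd sq₂ m, Category.assoc, Category.assoc]
  exact congrArg (toStage (c := cone p L) sq₂ m ≫ ·) heq.symm

end Groth.L05.NbhdLimit
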