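import Groth.Agent.L05.NbhdLimit.LocalExt
import Groth.Agent.L26.Neron.SchDense
import Groth.Agent.L19.SchDense
import Groth.Agent.L19.SpreadLfp
import Groth.Agent.L05.Point.UnramFlat
import Mathlib.AlgebraicGeometry.Sites.Fpqc
import Mathlib.RingTheory.Flat.FaithfullyFlat.Algebra

/-!
# The Néron mapping property descends along flat surjective morphisms
-/

set_option autoImplicit false
set_option linter.style.haveILetI false
set_option backward.isDefEq.respectTransparency false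
set_option backward.isDefEq.respectTransparency.types false

universe u

open CategoryTheory CategoryTheory.Limits AlgebraicGeometry

noncomputable section

namespace Groth.L05.NbhdLimit

/-- The extension property over the base, from the one of the base change. -/
theorem ext1_comp {S S' N Y' : Scheme.{u}} (n : N ⟶ S) (g : S' ⟶ S) (U : S.Opens) (h' : Y' ⟶ S')
    (hP : Ext1 (pullback.snd n g) (g ⁻¹ᵁ U) h') : Ext1 n U (h' ≫ g) := by
  intro v hv
  let v' : (h' ⁻¹ᵁ (g ⁻¹ᵁ U) : Scheme.{u}) ⟶ pullback n g :=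
    pullback.lift v ((h' ⁻¹ᵁ (g ⁻¹ᵁ U)).ι ≫ h') (by rw [Category.assoc]; exact hv)
  obtain ⟨f, ⟨hf1, hf2⟩, hu⟩ := hP v' (pullback.lift_snd _ _ _)
  refine ⟨f ≫ pullback.fst n g, ⟨by rw [Category.assoc, pullback.condition, reassoc_of% hf1], ?_⟩,
    fun a ha => ?_⟩
  · show (h' ⁻¹ᵁ (g ⁻¹ᵁ U)).ι ≫ f ≫ pullback.fst n g = v
    rw [reassoc_of% hf2, pullback.lift_fst]
  · have := hu (pullback.lift a h' ha.1) ⟨pullback.lift_snd _ _ _, by
      apply pullback.hom_ext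
      · rw [Category.assoc, pullback.lift_fst, pullback.lift_fst]; exact ha.2
      · rw [Category.assoc, pullback.lift_snd, pullback.lift_snd]⟩
    rw [← this, pullback.lift_fst]

variable {S S' N : Scheme.{u}} [IsLocallyNoetherian S] (n : N ⟶ S) [IsSeparated n] {U : S.Opens}
  (hU : CInt.IsSchematicallyDense U)

include hU in
theorem eq_of_flat {T : Scheme.{u}} (t : T ⟶ S) [Flat t] (a b : T ⟶ N) (ha : a ≫ n = t) (hb : b ≫ n = t)
    (e : (t ⁻¹ᵁ U).ι ≫ a = (t ⁻¹ᵁ U).ι ≫ b) : a = b :=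
  Groth.Agent.NeronL.eq_of_fac (t ⁻¹ᵁ U).ι
    (fun c _ l hl => Groth.Agent.NeronL.ker_eq_bot_of_schDense
      (Groth.Agent.L19.SchDense.isSchematicallyDense_preimage t U hU) c l hl) a b n (ha.trans hb.symm) e

variable {n}

include hU in
theorem ext1_of_descent [Smooth n] [QuasiCompact n] (g : S' ⟶ S) [Flat g] [Surjective g]
    (hN' : ∀ {Y' : Scheme.{u}} (h' : Y' ⟶ S'), Smooth h' → Ext1 n U (h' ≫ g))
    {Y : Scheme.{u}} (h : Y ⟶ S) [Smooth h] : Ext1 n U h := by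
  haveI : LocallyOfFinitePresentation n := inferInstance
  haveI : IsLocallyNoetherian Y := LocallyOfFiniteType.isLocallyNoetherian h
  intro v hv
  let Y' := pullback h g
  let pr : Y' ⟶ Y := pullback.fst h g
  let h' : Y' ⟶ S' := pullback.snd h g
  have hw : pr ≫ h = h' ≫ g := pullback.condition
  haveI : Flat pr := inferInstance
  haveI : Surjective pr := inferInstance
  let l' : ((h' ≫ g) ⁻¹ᵁ U : Scheme.{u}) ⟶ (h ⁻¹ᵁ U : Scheme.{u}) :=
    IsOpenImmersion.lift (h ⁻¹ᵁ U).ι (((h' ≫ g) ⁻¹ᵁ U).ι ≫ pr) (by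
      rintro _ ⟨z, rfl⟩
      rw [Scheme.Opens.range_ι]
      show (pr ≫ h) z.1 ∈ U
      rw [hw]
      exact z.2)
  have hl' : l' ≫ (h ⁻¹ᵁ U).ι = ((h' ≫ g) ⁻¹ᵁ U).ι ≫ pr := IsOpenImmersion.lift_fac _ _ _
  obtain ⟨f', ⟨hf1, hf2⟩, -⟩ := hN' h' inferInstance (l' ≫ v) (by
    rw [Category.assoc, hv, reassoc_of% hl', hw])
  have fac : ∀ {T : Scheme.{u}} (t : T ⟶ Y') (l : T ⟶ (h ⁻¹ᵁ U : Scheme.{u})),
      l ≫ (h ⁻¹ᵁ U).ι = t ≫ pr → t ≫ f' = l ≫ v := by
    intro T t l hl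
    let s : T ⟶ ((h' ≫ g) ⁻¹ᵁ U : Scheme.{u}) := IsOpenImmersion.lift ((h' ≫ g) ⁻¹ᵁ U).ι t (by
      rintro _ ⟨z, rfl⟩
      rw [Scheme.Opens.range_ι]
      show (h' ≫ g) (t z) ∈ U
      rw [← hw, Scheme.Hom.comp_apply, ← Scheme.Hom.comp_apply t, ← hl, Scheme.Hom.comp_apply]
      exact (l z).2)
    have hs : s ≫ ((h' ≫ g) ⁻¹ᵁ U).ι = t := IsOpenImmersion.lift_fac _ _ _
    have hsl : s ≫ l' = l := by
      rw [← cancel_mono (h ⁻¹ᵁ U).ι, Category.assoc, hl', reassoc_of% hs, hl]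
    rw [← hs, Category.assoc, hf2, reassoc_of% hsl]
  -- local existence
  have key : ∀ y : Y, ∃ (W : Y.Opens) (_ : y ∈ W) (f : (W : Scheme.{u}) ⟶ N), f ≫ n = W.ι ≫ h ∧
      ((W.ι ≫ h) ⁻¹ᵁ U).ι ≫ f = resPre h U W ≫ v := by
    intro y₀
    obtain ⟨y', rfl⟩ := pr.surjective y₀
    let q : Spec (Y'.presheaf.stalk y') ⟶ Spec (Y.presheaf.stalk (pr y')) := Spec.map (pr.stalkMap y')
    have hfl : (pr.stalkMap y').hom.Flat := Flat.stalkMap pr y'
    haveI : Flat q := (HasRingHomProperty.Spec_iff (P := @Flat)).mpr hfl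
    haveI : Surjective q := ⟨by
      letI := (pr.stalkMap y').hom.toAlgebra
      haveI : Module.Flat (Y.presheaf.stalk (pr y')) (Y'.presheaf.stalk y') := hfl
      haveI : IsLocalHom (algebraMap (Y.presheaf.stalk (pr y')) (Y'.presheaf.stalk y')) :=
        inferInstanceAs (IsLocalHom (pr.stalkMap y').hom)
      haveI : Module.FaithfullyFlat (Y.presheaf.stalk (pr y')) (Y'.presheaf.stalk y') :=
        Module.FaithfullyFlat.of_flat_of_isLocalHom
      exact PrimeSpectrum.comap_surjective_of_faithfullyFlat⟩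
    have hq : q ≫ Y.fromSpecStalk (pr y') = Y'.fromSpecStalk y' ≫ pr :=
      Scheme.SpecMap_stalkMap_fromSpecStalk pr
    let ψ := Y'.fromSpecStalk y' ≫ f'
    have hcond : pullback.fst q q ≫ ψ = pullback.snd q q ≫ ψ := by
      let t := pullback.fst q q ≫ q ≫ Y.fromSpecStalk (pr y') ≫ h
      haveI : Flat (Y.fromSpecStalk (pr y')) := Groth.L05.Point.flat_fromSpecStalk _
      haveI : Flat t := inferInstance
      have hψn : ψ ≫ n = q ≫ Y.fromSpecStalk (pr y') ≫ h := by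
        rw [Category.assoc, hf1, ← hw, reassoc_of% hq]
      refine eq_of_flat n hU t _ _ (by rw [Category.assoc, hψn])
        (by rw [Category.assoc, hψn, ← pullback.condition_assoc]) ?_
      let l : (t ⁻¹ᵁ U : Scheme.{u}) ⟶ (h ⁻¹ᵁ U : Scheme.{u}) :=
        IsOpenImmersion.lift (h ⁻¹ᵁ U).ι
          ((t ⁻¹ᵁ U).ι ≫ pullback.fst q q ≫ q ≫ Y.fromSpecStalk (pr y')) (by
          rintro _ ⟨z, rfl⟩
          rw [Scheme.Opens.range_ι]
          exact z.2)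
      have hl : l ≫ (h ⁻¹ᵁ U).ι = (t ⁻¹ᵁ U).ι ≫ pullback.fst q q ≫ q ≫ Y.fromSpecStalk (pr y') :=
        IsOpenImmersion.lift_fac _ _ _
      have e1 := fac ((t ⁻¹ᵁ U).ι ≫ pullback.fst q q ≫ Y'.fromSpecStalk y') l
        (by rw [hl, Category.assoc, Category.assoc, hq])
      have e2 := fac ((t ⁻¹ᵁ U).ι ≫ pullback.snd q q ≫ Y'.fromSpecStalk y') l
        (by rw [hl, Category.assoc, Category.assoc, pullback.condition_assoc, hq])
      simp only [Category.assoc] at e1 e2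
      exact e1.trans e2.symm
    have hcond' : ∀ {W : Scheme.{u}} (a b : W ⟶ Spec (Y'.presheaf.stalk y')), a ≫ q = b ≫ q → a ≫ ψ = b ≫ ψ := by
      intro W a b hab
      have := congrArg (pullback.lift a b hab ≫ ·) hcond
      simp only [pullback.lift_fst_assoc, pullback.lift_snd_assoc] at this
      exact this
    let φ : Spec (Y.presheaf.stalk (pr y')) ⟶ N := EffectiveEpi.desc q ψ fun {W} a b hab => hcond' a b hab
    have hφ : q ≫ φ = ψ := EffectiveEpi.fac q _ _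
    have hφn : φ ≫ n = Y.fromSpecStalk (pr y') ≫ h := by
      rw [← cancel_epi q, reassoc_of% hφ, Category.assoc, hf1, ← hw, reassoc_of% hq]
    obtain ⟨V, hyV, fV, hfV, hfVn⟩ := Groth.L19.SpreadLfp.spread_out' h n φ hφn
    obtain ⟨A', hA, hyA, hAV⟩ := exists_isAffineOpen_mem_and_subset (x := pr y') (U := V) hyV
    haveI : IsNoetherianRing Γ(Y, A') := IsLocallyNoetherian.component_noetherian ⟨A', hA⟩
    let P := (hA.primeIdealOf ⟨pr y', hyA⟩).asIdeal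
    letI alg : Algebra Γ(Y, A') (Y.presheaf.stalk (pr y')) := (Y.presheaf.germ A' (pr y') hyA).hom.toAlgebra
    haveI hloc : IsLocalization.AtPrime (Y.presheaf.stalk (pr y')) P := hA.isLocalization_stalk ⟨pr y', hyA⟩
    let i₁ : Idx P := ⟨1, fun h => (hA.primeIdealOf ⟨pr y', hyA⟩).isPrime.ne_top ((Ideal.eq_top_iff_one _).mpr h)⟩
    let tY : ∀ k : Idx P, (D P).obj k ⟶ Y := fun k => (toBase P).app k ≫ hA.fromSpec
    have htY : ∀ (k : Idx P), IsOpenImmersion (tY k) := fun k => by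
      haveI := toBase_isOpenImmersion P k
      exact inferInstanceAs (IsOpenImmersion ((toBase P).app k ≫ hA.fromSpec))
    have htA : ∀ (k : Idx P) z, tY k z ∈ A' := fun k z => by
      have : hA.fromSpec ((toBase P).app k z) ∈ Set.range hA.fromSpec := ⟨_, rfl⟩
      rw [hA.range_fromSpec] at this
      exact this
    have hπY : (cone P (Y.presheaf.stalk (pr y'))).π.app i₁ ≫ tY i₁ = Y.fromSpecStalk (pr y') := by
      rw [← Category.assoc, cone_π_toBase, ← IsAffineOpen.fromSpecStalk_eq_fromSpecStalk hA hyA]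
      rfl
    let E₁ : ((D P).obj i₁).Opens := tY i₁ ⁻¹ᵁ (h ⁻¹ᵁ U)
    haveI : CompactSpace (E₁ : Scheme.{u}) :=
      isCompact_iff_compactSpace.mp (TopologicalSpace.NoetherianSpace.isCompact (E₁ : Set ((D P).obj i₁)))
    let lV : (D P).obj i₁ ⟶ (V : Scheme.{u}) := IsOpenImmersion.lift V.ι (tY i₁) (by
      rintro _ ⟨z, rfl⟩
      rw [Scheme.Opens.range_ι]
      exact hAV (htA i₁ z))
    have hlV : lV ≫ V.ι = tY i₁ := IsOpenImmersion.lift_fac _ _ _
    let lU : (E₁ : Scheme.{u}) ⟶ (h ⁻¹ᵁ U : Scheme.{u}) := tY i₁ ∣_ (h ⁻¹ᵁ U)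
    have hlU : lU ≫ (h ⁻¹ᵁ U).ι = E₁.ι ≫ tY i₁ := morphismRestrict_ι _ _
    let c := cone P (Y.presheaf.stalk (pr y'))
    have hφV : c.π.app i₁ ≫ lV ≫ fV = φ := by
      rw [hfV, ← Category.assoc]
      congr 1
      rw [← cancel_mono V.ι, Category.assoc, hlV, hπY, Scheme.Opens.fromSpecStalkOfMem_ι]
    obtain ⟨k, hk⟩ := exists_eq (p := P) (L := Y.presheaf.stalk (pr y')) n (hA.fromSpec ≫ h)
      (g := E₁.ι) (isPullback_morphismRestrict (c.π.app i₁) E₁) (E₁.ι ≫ lV ≫ fV) (lU ≫ v)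
      (by rw [Category.assoc, Category.assoc, hfVn, reassoc_of% hlV]; simp [tY])
      (by rw [Category.assoc, hv, reassoc_of% hlU]; simp [tY])
      (by
        rw [morphismRestrict_ι_assoc, hφV]
        let E' := c.π.app i₁ ⁻¹ᵁ E₁
        haveI : Flat (q ∣_ E') := MorphismProperty.of_isPullback (P := @Flat)
          (isPullback_morphismRestrict q E').flip inferInstance
        haveI : Surjective (q ∣_ E') := MorphismProperty.of_isPullback (P := @Surjective)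
          (isPullback_morphismRestrict q E').flip inferInstance
        haveI : Epi (q ∣_ E') := Flat.epi_of_flat_of_surjective _
        rw [← cancel_epi (q ∣_ E'), morphismRestrict_ι_assoc, hφ]
        have e := fac ((q ⁻¹ᵁ E').ι ≫ Y'.fromSpecStalk y') ((q ∣_ E') ≫ (c.π.app i₁ ∣_ E₁) ≫ lU) (by
          simp only [Category.assoc]
          rw [hlU, morphismRestrict_ι_assoc, morphismRestrict_ι_assoc, hπY, hq])
        rw [Category.assoc] at e
        exact e.trans (by simp only [Category.assoc]))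
    let t := (D P).map k.hom
    have ht : t ≫ tY i₁ = tY k.left := by
      show (D P).map k.hom ≫ (toBase P).app i₁ ≫ hA.fromSpec = _
      rw [(toBase P).naturality_assoc]
      simp [tY]
    haveI := htY k.left
    let W : Y.Opens := (tY k.left).opensRange
    let e := (tY k.left).isoOpensRange
    have he : e.hom ≫ W.ι = tY k.left := (tY k.left).isoOpensRange_hom_ι
    refine ⟨W, ?_, e.inv ≫ t ≫ lV ≫ fV, ?_, ?_⟩
    · refine ⟨c.π.app k.left (IsLocalRing.closedPoint (Y.presheaf.stalk (pr y'))), ?_⟩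
      show (c.π.app k.left ≫ tY k.left) _ = _
      rw [← ht, ← Category.assoc, c.w, hπY]
      exact Scheme.fromSpecStalk_closedPoint
    · rw [← cancel_epi e.hom, ← Category.assoc e.hom W.ι, he]
      simp only [Category.assoc, Iso.hom_inv_id_assoc]
      rw [hfVn, reassoc_of% hlV, reassoc_of% ht]
    · have he' : e.inv ≫ tY k.left = W.ι := by rw [Iso.inv_comp_eq, he]
      let E := (W.ι ≫ h) ⁻¹ᵁ U
      let m : (E : Scheme.{u}) ⟶ pullback t E₁.ι := pullback.lift (E.ι ≫ e.inv)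
        (IsOpenImmersion.lift E₁.ι (E.ι ≫ e.inv ≫ t) (by
          rintro _ ⟨z, rfl⟩
          rw [Scheme.Opens.range_ι]
          show h ((E.ι ≫ (e.inv ≫ t ≫ tY i₁)) z) ∈ U
          rw [ht, he']
          exact z.2)) (by rw [Category.assoc, IsOpenImmersion.lift_fac])
      have hm : m ≫ pullback.snd t E₁.ι ≫ E₁.ι = E.ι ≫ e.inv ≫ t := by
        rw [← pullback.condition, pullback.lift_fst_assoc, Category.assoc]
      have hmU : m ≫ pullback.snd t E₁.ι ≫ lU = resPre h U W := by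
        rw [← cancel_mono (h ⁻¹ᵁ U).ι, resPre_ι]
        simp only [Category.assoc]
        rw [hlU, reassoc_of% hm, ht, he']
      calc E.ι ≫ e.inv ≫ t ≫ lV ≫ fV = m ≫ pullback.snd t E₁.ι ≫ E₁.ι ≫ lV ≫ fV :=
            by rw [reassoc_of% hm]
        _ = m ≫ pullback.snd t E₁.ι ≫ lU ≫ v := congrArg (m ≫ ·) hk
        _ = _ := by rw [reassoc_of% hmU]
  choose W hyW f hfn hfv using key
  let 𝒰 : Y.OpenCover := Y.openCoverOfIsOpenCover W (eq_top_iff.mpr fun y _ =>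
    TopologicalSpace.Opens.mem_iSup.mpr ⟨y, hyW y⟩)
  have hglue : ∀ a b : Y, pullback.fst (W a).ι (W b).ι ≫ f a = pullback.snd (W a).ι (W b).ι ≫ f b := by
    intro a b
    let t := pullback.fst (W a).ι (W b).ι ≫ (W a).ι ≫ h
    refine eq_of_flat n hU t _ _ (by rw [Category.assoc, hfn])
      (by rw [Category.assoc, hfn, ← pullback.condition_assoc]) ?_
    have hE : ∀ (c : Y) (s : pullback (W a).ι (W b).ι ⟶ (W c : Scheme.{u})),
        s ≫ (W c).ι = pullback.fst (W a).ι (W b).ι ≫ (W a).ι →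
        ∃ l : (t ⁻¹ᵁ U : Scheme.{u}) ⟶ (h ⁻¹ᵁ U : Scheme.{u}),
          l ≫ (h ⁻¹ᵁ U).ι = (t ⁻¹ᵁ U).ι ≫ pullback.fst (W a).ι (W b).ι ≫ (W a).ι ∧
            (t ⁻¹ᵁ U).ι ≫ s ≫ f c = l ≫ v := by
      intro c s hs
      let l : (t ⁻¹ᵁ U : Scheme.{u}) ⟶ (((W c).ι ≫ h) ⁻¹ᵁ U : Scheme.{u}) :=
        IsOpenImmersion.lift (((W c).ι ≫ h) ⁻¹ᵁ U).ι ((t ⁻¹ᵁ U).ι ≫ s) (by
          rintro _ ⟨z, rfl⟩
          rw [Scheme.Opens.range_ι]
          show ((s ≫ (W c).ι) ≫ h) z.1 ∈ U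
          rw [hs, Category.assoc]
          exact z.2)
      have hl : l ≫ (((W c).ι ≫ h) ⁻¹ᵁ U).ι = (t ⁻¹ᵁ U).ι ≫ s := IsOpenImmersion.lift_fac _ _ _
      refine ⟨l ≫ resPre h U (W c), ?_, ?_⟩
      · rw [Category.assoc, resPre_ι, reassoc_of% hl, hs]
      · rw [← reassoc_of% hl, hfv, Category.assoc]
    obtain ⟨l₁, hl₁, e₁⟩ := hE a (pullback.fst _ _) rfl
    obtain ⟨l₂, hl₂, e₂⟩ := hE b (pullback.snd _ _) pullback.condition.symm
    rw [e₁, e₂, show l₁ = l₂ from (cancel_mono (h ⁻¹ᵁ U).ι).mp (hl₁.trans hl₂.symm)]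
  let F : Y ⟶ N := 𝒰.glueMorphisms f hglue
  have hF : ∀ a : Y, (W a).ι ≫ F = f a := fun a => 𝒰.ι_glueMorphisms f hglue a
  have hF1 : F ≫ n = h := 𝒰.hom_ext _ _ fun a => by
    show (W a).ι ≫ F ≫ n = (W a).ι ≫ h
    rw [← Category.assoc, hF, hfn]
  have hF2 : (h ⁻¹ᵁ U).ι ≫ F = v := by
    let 𝒱 := (h ⁻¹ᵁ U).toScheme.openCoverOfIsOpenCover
      (fun a : Y => (h ⁻¹ᵁ U).ι ⁻¹ᵁ W a) (eq_top_iff.mpr fun z _ =>
        TopologicalSpace.Opens.mem_iSup.mpr ⟨z.1, hyW z.1⟩)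
    refine 𝒱.hom_ext _ _ fun a => ?_
    show ((h ⁻¹ᵁ U).ι ⁻¹ᵁ W a).ι ≫ (h ⁻¹ᵁ U).ι ≫ F = ((h ⁻¹ᵁ U).ι ⁻¹ᵁ W a).ι ≫ v
    let c : (((h ⁻¹ᵁ U).ι ⁻¹ᵁ W a) : Scheme.{u}) ⟶ (((W a).ι ≫ h) ⁻¹ᵁ U : Scheme.{u}) :=
      IsOpenImmersion.lift (((W a).ι ≫ h) ⁻¹ᵁ U).ι ((h ⁻¹ᵁ U).ι ∣_ W a) (by
        rintro _ ⟨z, rfl⟩
        rw [Scheme.Opens.range_ι]
        show h ((((h ⁻¹ᵁ U).ι ∣_ W a) ≫ (W a).ι) z) ∈ U
        rw [morphismRestrict_ι]
        exact z.1.2)
    have hc : c ≫ (((W a).ι ≫ h) ⁻¹ᵁ U).ι = (h ⁻¹ᵁ U).ι ∣_ W a := IsOpenImmersion.lift_fac _ _ _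
    have hc' : c ≫ resPre h U (W a) = ((h ⁻¹ᵁ U).ι ⁻¹ᵁ W a).ι := by
      rw [← cancel_mono (h ⁻¹ᵁ U).ι, Category.assoc, resPre_ι, reassoc_of% hc, morphismRestrict_ι]
    rw [← morphismRestrict_ι_assoc, hF, ← hc, Category.assoc, hfv, reassoc_of% hc']
  exact ⟨F, ⟨hF1, hF2⟩, fun g' hg' => eq_of_flat n hU h g' F hg'.1 hF1 (hg'.2.trans hF2.symm)⟩

end Groth.L05.NbhdLimit
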