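import Groth.Agent.L05.NbhdLimit.Extend
import Groth.Agent.L26.Neron.Basic

/-!
# The extension property is local on the source
-/

set_option autoImplicit false
set_option linter.style.haveILetI false
set_option backward.isDefEq.respectTransparency false
set_option backward.isDefEq.respectTransparency.types false

universe u

open CategoryTheory CategoryTheory.Limits AlgebraicGeometry

noncomputable section

namespace Groth.L05.NbhdLimit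

variable {S N : Scheme.{u}} {n : N ⟶ S} {U : S.Opens} {Y : Scheme.{u}} (h : Y ⟶ S)

/-- The inclusion of the preimage of `U` in an open. -/
def resPre (U : S.Opens) (W : Y.Opens) :
    ((W.ι ≫ h) ⁻¹ᵁ U : Scheme.{u}) ⟶ (h ⁻¹ᵁ U : Scheme.{u}) :=
  IsOpenImmersion.lift (h ⁻¹ᵁ U).ι (((W.ι ≫ h) ⁻¹ᵁ U).ι ≫ W.ι) (by
    rintro _ ⟨z, rfl⟩
    rw [Scheme.Opens.range_ι]
    exact z.2)

theorem resPre_ι (W : Y.Opens) :
    resPre h U W ≫ (h ⁻¹ᵁ U).ι = ((W.ι ≫ h) ⁻¹ᵁ U).ι ≫ W.ι :=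
  IsOpenImmersion.lift_fac _ _ _

theorem ext1_of_affineOpens (hW : ∀ W : Y.affineOpens, Ext1 n U (W.1.ι ≫ h)) : Ext1 n U h := by
  intro v hv
  have hv' : ∀ W : Y.affineOpens, (resPre h U W.1 ≫ v) ≫ n = ((W.1.ι ≫ h) ⁻¹ᵁ U).ι ≫ W.1.ι ≫ h := by
    intro W
    rw [Category.assoc, hv, ← Category.assoc, resPre_ι, Category.assoc]
  choose f hf hu using fun W => hW W _ (hv' W)
  have hres : ∀ (W' W : Y.affineOpens) (c : (W'.1 : Scheme.{u}) ⟶ W.1), c ≫ W.1.ι = W'.1.ι →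
      c ≫ f W = f W' := by
    intro W' W c hc
    refine hu W' _ ⟨by rw [Category.assoc, (hf W).1, reassoc_of% hc], ?_⟩
    let l : ((W'.1.ι ≫ h) ⁻¹ᵁ U : Scheme.{u}) ⟶ ((W.1.ι ≫ h) ⁻¹ᵁ U : Scheme.{u}) :=
      IsOpenImmersion.lift ((W.1.ι ≫ h) ⁻¹ᵁ U).ι (((W'.1.ι ≫ h) ⁻¹ᵁ U).ι ≫ c) (by
        rintro _ ⟨z, rfl⟩
        rw [Scheme.Opens.range_ι]
        show (W.1.ι ≫ h) (c z.1) ∈ U
        rw [← Scheme.Hom.comp_apply, reassoc_of% hc]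
        exact z.2)
    have hl : l ≫ ((W.1.ι ≫ h) ⁻¹ᵁ U).ι = ((W'.1.ι ≫ h) ⁻¹ᵁ U).ι ≫ c := IsOpenImmersion.lift_fac _ _ _
    have hl' : l ≫ resPre h U W.1 = resPre h U W'.1 := by
      rw [← cancel_mono (h ⁻¹ᵁ U).ι, Category.assoc, resPre_ι, resPre_ι, reassoc_of% hl, hc]
    rw [← reassoc_of% hl, (hf W).2, reassoc_of% hl']
  let 𝒰 : Y.OpenCover := Y.openCoverOfIsOpenCover (fun W : Y.affineOpens => W.1) (iSup_affineOpens_eq_top Y)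
  have hglue : ∀ W W' : Y.affineOpens,
      pullback.fst W.1.ι W'.1.ι ≫ f W = pullback.snd W.1.ι W'.1.ι ≫ f W' := by
    intro W W'
    refine (pullback W.1.ι W'.1.ι).affineCover.hom_ext _ _ fun z => ?_
    let e := (pullback W.1.ι W'.1.ι).affineCover.f z ≫ pullback.fst W.1.ι W'.1.ι ≫ W.1.ι
    haveI : IsOpenImmersion e := inferInstance
    let W'' : Y.affineOpens := ⟨e.opensRange, isAffineOpen_opensRange e⟩
    let i := e.isoOpensRange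
    have hi : i.hom ≫ W''.1.ι = e := e.isoOpensRange_hom_ι
    have h1 := hres W'' W (i.inv ≫ (pullback W.1.ι W'.1.ι).affineCover.f z ≫ pullback.fst _ _)
      (by rw [Category.assoc, Category.assoc, Iso.inv_comp_eq, hi])
    have h2 := hres W'' W' (i.inv ≫ (pullback W.1.ι W'.1.ι).affineCover.f z ≫ pullback.snd _ _)
      (by rw [Category.assoc, Category.assoc, Iso.inv_comp_eq, hi, ← pullback.condition])
    simp only [Category.assoc] at h1 h2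
    rw [← cancel_epi i.inv]
    exact h1.trans h2.symm
  let F : Y ⟶ N := 𝒰.glueMorphisms f hglue
  have hF : ∀ W : Y.affineOpens, W.1.ι ≫ F = f W := fun W => 𝒰.ι_glueMorphisms f hglue W
  refine ⟨F, ⟨?_, ?_⟩, fun g hg => 𝒰.hom_ext _ _ fun W => ?_⟩
  · refine 𝒰.hom_ext _ _ fun W => ?_
    show W.1.ι ≫ F ≫ n = W.1.ι ≫ h
    rw [← Category.assoc, hF, (hf W).1]
  · let 𝒱 := (h ⁻¹ᵁ U).toScheme.openCoverOfIsOpenCover
      (fun W : Y.affineOpens => (h ⁻¹ᵁ U).ι ⁻¹ᵁ W.1) (by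
        show ⨆ W : Y.affineOpens, (h ⁻¹ᵁ U).ι ⁻¹ᵁ W.1 = ⊤
        rw [← Scheme.Hom.preimage_iSup, iSup_affineOpens_eq_top, Scheme.Hom.preimage_top])
    refine 𝒱.hom_ext _ _ fun W => ?_
    show ((h ⁻¹ᵁ U).ι ⁻¹ᵁ W.1).ι ≫ (h ⁻¹ᵁ U).ι ≫ F = ((h ⁻¹ᵁ U).ι ⁻¹ᵁ W.1).ι ≫ v
    let c : (((h ⁻¹ᵁ U).ι ⁻¹ᵁ W.1) : Scheme.{u}) ⟶ ((W.1.ι ≫ h) ⁻¹ᵁ U : Scheme.{u}) :=
      IsOpenImmersion.lift ((W.1.ι ≫ h) ⁻¹ᵁ U).ι ((h ⁻¹ᵁ U).ι ∣_ W.1) (by
        rintro _ ⟨z, rfl⟩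
        rw [Scheme.Opens.range_ι]
        show h ((((h ⁻¹ᵁ U).ι ∣_ W.1) ≫ W.1.ι) z) ∈ U
        rw [morphismRestrict_ι]
        exact z.1.2)
    have hc : c ≫ ((W.1.ι ≫ h) ⁻¹ᵁ U).ι = (h ⁻¹ᵁ U).ι ∣_ W.1 := IsOpenImmersion.lift_fac _ _ _
    have hc' : c ≫ resPre h U W.1 = ((h ⁻¹ᵁ U).ι ⁻¹ᵁ W.1).ι := by
      rw [← cancel_mono (h ⁻¹ᵁ U).ι, Category.assoc, resPre_ι, reassoc_of% hc, morphismRestrict_ι]
    calc _ = ((h ⁻¹ᵁ U).ι ∣_ W.1) ≫ W.1.ι ≫ F := by rw [morphismRestrict_ι_assoc]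
      _ = c ≫ ((W.1.ι ≫ h) ⁻¹ᵁ U).ι ≫ f W := by rw [hF, reassoc_of% hc]
      _ = _ := by rw [(hf W).2, reassoc_of% hc']
  · show W.1.ι ≫ g = W.1.ι ≫ F
    rw [hF]
    refine hu W _ ⟨by rw [Category.assoc, hg.1], ?_⟩
    rw [← hg.2, ← Category.assoc, ← Category.assoc, resPre_ι]

theorem bijective_iff_ext1 (Z M : Over S) :
    Function.Bijective (fun f : Z ⟶ M => (Over.pullback U.ι).map f) ↔ Ext1 M.hom U Z.hom := by
  rw [Groth.Agent.NeronL.map_bijective_iff]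
  let e := (isPullback_morphismRestrict Z.hom U).flip.isoPullback
  have he : e.hom ≫ pullback.fst Z.hom U.ι = (Z.hom ⁻¹ᵁ U).ι := IsPullback.isoPullback_hom_fst _
  constructor
  · intro H v hv
    obtain ⟨f, hf, hu⟩ := H (e.inv ≫ v) (by
      rw [Category.assoc, hv, ← he, Category.assoc, Iso.inv_hom_id_assoc])
    refine ⟨f.left, ⟨Over.w f, by rw [← he, Category.assoc, hf, Iso.hom_inv_id_assoc]⟩, fun g hg => ?_⟩
    exact congrArg CommaMorphism.left (hu (Over.homMk g hg.1)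
      (by show pullback.fst _ _ ≫ g = _; rw [← hg.2, ← he, Category.assoc, Iso.inv_hom_id_assoc]))
  · intro H v hv
    obtain ⟨f, ⟨hf1, hf2⟩, hu⟩ := H (e.hom ≫ v) (by rw [Category.assoc, hv, ← he, Category.assoc])
    refine ⟨Over.homMk f hf1, ?_, fun g hg => ?_⟩
    · show pullback.fst _ _ ≫ f = v
      rw [← cancel_epi e.hom, ← Category.assoc, he, hf2]
    · exact Over.OverMorphism.ext (hu g.left ⟨Over.w g, by rw [← he, Category.assoc, hg]⟩)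

end Groth.L05.NbhdLimit
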