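import Groth.Agent.L05.NbhdLimit.LocalExt
import Mathlib.AlgebraicGeometry.Limits
import Mathlib.AlgebraicGeometry.Morphisms.Smooth

/-!
# The extension property and disjoint unions
-/

set_option autoImplicit false
set_option linter.style.haveILetI false
set_option backward.isDefEq.respectTransparency false
set_option backward.isDefEq.respectTransparency.types false

universe u

open CategoryTheory CategoryTheory.Limits AlgebraicGeometry

noncomputable section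

namespace Groth.L05.NbhdLimit

theorem ext1_pullback_iff {S S' N N' Y : Scheme.{u}} {n : N ⟶ S} {n' : N' ⟶ S'} {g : S' ⟶ S}
    {k : N' ⟶ N} (sq : IsPullback k n' n g) (U : S.Opens) (h : Y ⟶ S') :
    Ext1 n U (h ≫ g) ↔ Ext1 n' (g ⁻¹ᵁ U) h := by
  constructor
  · intro H v hv
    obtain ⟨f, ⟨hf1, hf2⟩, hu⟩ := H (v ≫ k) (by
      rw [Category.assoc, sq.w, reassoc_of% hv]; rfl)
    refine ⟨sq.lift f h hf1, ⟨sq.lift_snd _ _ _, ?_⟩, fun a ha => ?_⟩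
    · apply sq.hom_ext
      · rw [Category.assoc, sq.lift_fst]; exact hf2
      · rw [Category.assoc, sq.lift_snd, hv]
    · apply sq.hom_ext
      · rw [sq.lift_fst]
        refine hu (a ≫ k) ⟨by rw [Category.assoc, sq.w, reassoc_of% ha.1], ?_⟩
        show (h ⁻¹ᵁ (g ⁻¹ᵁ U)).ι ≫ a ≫ k = v ≫ k
        rw [reassoc_of% ha.2]
      · rw [sq.lift_snd, ha.1]
  · intro H v hv
    obtain ⟨f, ⟨hf1, hf2⟩, hu⟩ := H (sq.lift v ((h ⁻¹ᵁ (g ⁻¹ᵁ U)).ι ≫ h)
      (hv.trans (Category.assoc _ _ _).symm)) (sq.lift_snd _ _ _)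
    refine ⟨f ≫ k, ⟨by rw [Category.assoc, sq.w, reassoc_of% hf1], ?_⟩, fun a ha => ?_⟩
    · show (h ⁻¹ᵁ (g ⁻¹ᵁ U)).ι ≫ f ≫ k = v
      rw [reassoc_of% hf2, sq.lift_fst]
    · rw [← hu (sq.lift a h ha.1) ⟨sq.lift_snd _ _ _, by
        apply sq.hom_ext
        · rw [Category.assoc, sq.lift_fst, sq.lift_fst]; exact ha.2
        · rw [Category.assoc, sq.lift_snd, sq.lift_snd]⟩, sq.lift_fst]

theorem ext1_of_disjoint {S N Y : Scheme.{u}} {n : N ⟶ S} {U : S.Opens} (h : Y ⟶ S) {κ : Type u}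
    (W : κ → Y.Opens) (hW : ⨆ a, W a = ⊤) (hd : ∀ a b, a ≠ b → Disjoint (W a) (W b))
    (hE : ∀ a, Ext1 n U ((W a).ι ≫ h)) : Ext1 n U h := by
  intro v hv
  have hv' : ∀ a, (resPre h U (W a) ≫ v) ≫ n = (((W a).ι ≫ h) ⁻¹ᵁ U).ι ≫ (W a).ι ≫ h := by
    intro a
    rw [Category.assoc, hv, ← Category.assoc, resPre_ι, Category.assoc]
  choose f hf hu using fun a => hE a _ (hv' a)
  let 𝒰 : Y.OpenCover := Y.openCoverOfIsOpenCover W hW
  have hglue : ∀ a b, pullback.fst (W a).ι (W b).ι ≫ f a = pullback.snd (W a).ι (W b).ι ≫ f b := by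
    intro a b
    rcases eq_or_ne a b with rfl | hab
    · rw [(cancel_mono (W a).ι).1 (pullback.condition (f := (W a).ι) (g := (W a).ι))]
    · haveI : IsEmpty ↥(pullback (W a).ι (W b).ι) := ⟨fun z => by
        have h1 : (pullback.fst (W a).ι (W b).ι ≫ (W a).ι) z ∈ W a :=
          ((pullback.fst (W a).ι (W b).ι) z).2
        have h2 : (pullback.fst (W a).ι (W b).ι ≫ (W a).ι) z ∈ W b := by
          rw [pullback.condition]
          exact ((pullback.snd (W a).ι (W b).ι) z).2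
        exact ((hd a b hab).le_bot ⟨h1, h2⟩ :)⟩
      exact isInitialOfIsEmpty.hom_ext _ _
  let F : Y ⟶ N := 𝒰.glueMorphisms f hglue
  have hF : ∀ a, (W a).ι ≫ F = f a := fun a => 𝒰.ι_glueMorphisms f hglue a
  refine ⟨F, ⟨?_, ?_⟩, fun g hg => 𝒰.hom_ext _ _ fun a => ?_⟩
  · refine 𝒰.hom_ext _ _ fun a => ?_
    show (W a).ι ≫ F ≫ n = (W a).ι ≫ h
    rw [← Category.assoc, hF, (hf a).1]
  · let 𝒱 := (h ⁻¹ᵁ U).toScheme.openCoverOfIsOpenCover
      (fun a => (h ⁻¹ᵁ U).ι ⁻¹ᵁ W a) (by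
        show ⨆ a, (h ⁻¹ᵁ U).ι ⁻¹ᵁ W a = ⊤
        rw [← Scheme.Hom.preimage_iSup, hW, Scheme.Hom.preimage_top])
    refine 𝒱.hom_ext _ _ fun a => ?_
    show ((h ⁻¹ᵁ U).ι ⁻¹ᵁ W a).ι ≫ (h ⁻¹ᵁ U).ι ≫ F = ((h ⁻¹ᵁ U).ι ⁻¹ᵁ W a).ι ≫ v
    let c : (((h ⁻¹ᵁ U).ι ⁻¹ᵁ W a) : Scheme.{u}) ⟶ (((W a).ι ≫ h) ⁻¹ᵁ U : Scheme.{u}) :=
      IsOpenImmersion.lift (((W a).ι ≫ h) ⁻¹ᵁ U).ι ((h ⁻¹ᵁ U).ι ∣_ W a) (by
        rintro _ ⟨z, rfl⟩
        rw [Scheme.Opens.range_ι]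
        show h ((((h ⁻¹ᵁ U).ι ∣_ W a) ≫ (W a).ι) z) ∈ U
        rw [morphismRestrict_ι]
        exact z.1.2)
    have hc : c ≫ (((W a).ι ≫ h) ⁻¹ᵁ U).ι = (h ⁻¹ᵁ U).ι ∣_ W a := IsOpenImmersion.lift_fac _ _ _
    have hc' : c ≫ resPre h U (W a) = ((h ⁻¹ᵁ U).ι ⁻¹ᵁ W a).ι := by
      rw [← cancel_mono (h ⁻¹ᵁ U).ι, Category.assoc, resPre_ι, reassoc_of% hc, morphismRestrict_ι]
    rw [← morphismRestrict_ι_assoc, hF, ← hc, Category.assoc, (hf a).2, reassoc_of% hc']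
  · show (W a).ι ≫ g = (W a).ι ≫ F
    rw [hF]
    refine hu a _ ⟨by rw [Category.assoc, hg.1], ?_⟩
    rw [← hg.2, ← Category.assoc, ← Category.assoc, resPre_ι]

theorem isPullback_sigma_map {I : Type u} (B N : I → Scheme.{u}) (f : ∀ i, N i ⟶ B i) (i : I) :
    IsPullback (Sigma.ι N i) (f i) (Limits.Sigma.map f) (Sigma.ι B i) := by
  refine (IsOpenImmersion.isPullback (f i) (Sigma.ι N i) (Sigma.ι B i) (Limits.Sigma.map f) (Limits.Sigma.ι_map _ _) ?_).flip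
  ext x
  obtain ⟨j, y, rfl⟩ := (sigmaOpenCover N).exists_eq x
  change (Limits.Sigma.map f) (Sigma.ι N j y) ∈ Set.range (Sigma.ι B i) ↔ Sigma.ι N j y ∈ Set.range (Sigma.ι N i)
  rw [← Scheme.Hom.comp_apply, Limits.Sigma.ι_map, Scheme.Hom.comp_apply]
  constructor
  · rintro ⟨z, hz⟩
    by_cases hji : j = i
    · subst hji; exact ⟨y, rfl⟩
    · have hd := disjoint_opensRange_sigmaι B j i hji
      have : Sigma.ι B j (f j y) ∈ (Sigma.ι B j).opensRange ⊓ (Sigma.ι B i).opensRange :=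
        ⟨⟨f j y, rfl⟩, ⟨z, hz⟩⟩
      exact (hd.le_bot this).elim
  · rintro ⟨z, hz⟩
    by_cases hji : j = i
    · subst hji; exact ⟨f j y, rfl⟩
    · have hd := disjoint_opensRange_sigmaι N j i hji
      have : Sigma.ι N j y ∈ (Sigma.ι N j).opensRange ⊓ (Sigma.ι N i).opensRange :=
        ⟨⟨y, rfl⟩, ⟨z, hz⟩⟩
      exact (hd.le_bot this).elim

theorem ext1_sigma_iff {I : Type u} (B N : I → Scheme.{u}) (f : ∀ i, N i ⟶ B i) (U : (∐ B).Opens) :
    (∀ {Y : Scheme.{u}} (h : Y ⟶ ∐ B), Smooth h → Ext1 (Limits.Sigma.map f) U h) ↔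
      ∀ i, ∀ {Y : Scheme.{u}} (h : Y ⟶ B i), Smooth h → Ext1 (f i) (Sigma.ι B i ⁻¹ᵁ U) h := by
  constructor
  · intro H i Y h hh
    exact (ext1_pullback_iff (isPullback_sigma_map B N f i) U h).1
      (H (h ≫ Sigma.ι B i) inferInstance)
  · intro H Y h hh
    let W : I → Y.Opens := fun i => h ⁻¹ᵁ (Sigma.ι B i).opensRange
    refine ext1_of_disjoint h W ?_ (fun a b hab => ?_) fun i => ?_
    · refine eq_top_iff.mpr fun y _ => ?_
      obtain ⟨i, z, hz⟩ := (sigmaOpenCover B).exists_eq (h y)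
      exact TopologicalSpace.Opens.mem_iSup.mpr ⟨i, z, hz⟩
    · rw [disjoint_iff, ← Scheme.Hom.preimage_inf, (disjoint_opensRange_sigmaι B a b hab).eq_bot]
      exact eq_bot_iff.mpr fun z hz => hz
    · let l : (W i : Scheme.{u}) ⟶ B i := IsOpenImmersion.lift (Sigma.ι B i) ((W i).ι ≫ h) (by
        rintro _ ⟨z, rfl⟩
        exact z.2)
      have hl : l ≫ Sigma.ι B i = (W i).ι ≫ h := IsOpenImmersion.lift_fac _ _ _
      have hls : Smooth l := by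
        have := MorphismProperty.of_postcomp (W := @Smooth) (W' := @IsOpenImmersion) l (Sigma.ι B i)
          inferInstance (by rw [hl]; infer_instance)
        exact this
      exact hl ▸ (ext1_pullback_iff (isPullback_sigma_map B N f i) U l).2 (H i l hls)

end Groth.L05.NbhdLimit
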